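import Cfsg.Agent.H0.EHeZ.D
import Cfsg.Agent.H0.MHZ.Main
set_option maxRecDepth 100000
set_option Elab.async false
set_option linter.unusedSectionVars false
namespace H0.EHeZ
open H0 BN 
theorem defs_ok : DefsOK R.p defs 16 := defsOK_of_chk c49
universe u
variable {G : Type u} [Group G] [Finite G] (m0 : Model G) (h0 : m0.R = H0.MHe.R)
noncomputable def m : Model G := m0.ext (lg := nat_lit 12) (N := nat_lit 4096) (l := H0.MHe.nl) h0 nl nl_ok 16 rfl defs defs_ok (by decide +kernel)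
theorem mR : (m m0 h0).R = R := rfl
variable (hb : m0.pst [1361, 416, 1, 0] = ⊥) (hc : Nat.card G = 4030387200)
include h0 hb hc
theorem base : (m m0 h0).pst [1361, 416, 1, 0] = ⊥ := hb
omit hb hc in
theorem geq {x : ℕ} (h : x < 16) : (m m0 h0).g x = m0.g x := m0.ext_g h0 _ _ _ _ _ _ _ h
omit hb hc in
theorem zch_ok : (m m0 h0).ChainOK zch [] := ((m m0 h0).chain_cons [0, 1, 0, 1, 0, 1, 0, 1, 0, 1, 0, 1, 0, 1, 0, 1, 0, 1, 0, 1, 0] (Model.via _ (mR m0 h0) (fun R => Model.fixP R [] [[30], [31]]) c12) (Model.via _ (mR m0 h0) (fun R => Model.growP R [[30], [31]] [0, 1, 0, 1, 0, 1, 0, 1, 0, 1, 0, 1, 0, 1, 0, 1, 0, 1, 0, 1, 0] 114 2058) c13) ((m m0 h0).chain_cons [0, 1, 0, 1, 0, 1, 0, 1, 0, 1, 0, 1, 0, 1, 0, 1, 0, 0] (Model.via _ (mR m0 h0) (fun R => Model.fixP R [114] [[32], [33]]) c10) (Model.via _ (mR m0 h0) (fun R => Model.growP R [[32], [33]] [0, 1, 0, 1, 0, 1, 0, 1, 0, 1, 0, 1, 0,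 1, 0, 1, 0, 0] 1201 1360) c11) ((m m0 h0).chain_cons [0, 0, 1, 1, 0, 1, 1, 0, 1, 0, 0, 0] (Model.via _ (mR m0 h0) (fun R => Model.fixP R [1201, 114] [[34], [35]]) c8) (Model.via _ (mR m0 h0) (fun R => Model.growP R [[34], [35]] [0, 0, 1, 1, 0, 1, 1, 0, 1, 0, 0, 0] 265 30) c9) ((m m0 h0).chain_cons [0, 0, 0] (Model.via _ (mR m0 h0) (fun R => Model.fixP R [265, 1201, 114] [[36], [37]]) c6) (Model.via _ (mR m0 h0) (fun R => Model.growP R [[36], [37]] [0, 0, 0] 9 4) c7) ((m m0 h0).chain_cons [0, 1] (Model.via _ (mR m0 h0) (fun R => Model.fixP R [9, 265, 1201, 114] [[38], [39]]) c4) (Model.via _ (mR m0 h0) (fun R => Model.growP R [[38], [39]] [0, 1] 692 3) c5) ((m m0 h0).chain_cons [1] (Model.via _ (mR m0 h0) (fun R => Model.fixP R [692, 9, 265, 1201, 114] [[40], [41]]) c2) (Model.via _ (mR m0 h0) (fun R => Model.growP R [[40], [41]] [1] 1707 2) c3) ((m m0 h0).chain_cons [0] (Model.via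 _ (mR m0 h0) (fun R => Model.fixP R [1707, 692, 9, 265, 1201, 114] [[42]]) c0) (Model.via _ (mR m0 h0) (fun R => Model.growP R [[42]] [0] 0 2) c1) ((m m0 h0).chain_nil _))))))))
theorem ztop : gen (m m0 h0).g (Model.cgens zch) = ⊤ := (m m0 h0).chain_top (zch_ok m0 h0) (hc.trans (by decide +kernel))
theorem zbdd : (m m0 h0).Bdd := (m m0 h0).bdd_of_top (ztop m0 h0 hb hc)
theorem zot : (m m0 h0).OTOK zOT := ((m m0 h0).otok_cons (zch_ok m0 h0) (hc.trans (by decide +kernel)) 6 rfl (Model.via _ (mR m0 h0) (fun R => Model.invB R (Model.cgens (zch.drop 6)) zO0) c40) ((m m0 h0).otok_cons (zch_ok m0 h0) (hc.trans (by decide +kernel)) 5 rfl (Model.via _ (mR m0 h0) (fun R => Model.invB R (Model.cgens (zch.drop 5)) zO1) c39) ((m m0 h0).otok_cons (zch_ok m0 h0) (hc.trans (by decide +kernel)) 3 rfl (Model.via _ (mR m0 h0) (fun R => Model.invB R (Model.cgens (zch.drop 3)) zO2) c38) ((m m0 h0).otok_cons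 (zch_ok m0 h0) (hc.trans (by decide +kernel)) 2 rfl (Model.via _ (mR m0 h0) (fun R => Model.invB R (Model.cgens (zch.drop 2)) zO3) c37) ((m m0 h0).otok_cons (zch_ok m0 h0) (hc.trans (by decide +kernel)) 1 rfl (Model.via _ (mR m0 h0) (fun R => Model.invB R (Model.cgens (zch.drop 1)) zO4) c36) ((m m0 h0).otok_cons (zch_ok m0 h0) (hc.trans (by decide +kernel)) 0 rfl (Model.via _ (mR m0 h0) (fun R => Model.invB R (Model.cgens (zch.drop 0)) zO5) c35) (m m0 h0).otok_nil))))))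
theorem zcm : ∀ w ∈ zCg, (m m0 h0).Cm [[29]] (ev (m m0 h0).g w) := (m m0 h0).cm_of_pairs (all_take_done (all_take_step (all_take_zero _ (zCg.flatMap fun w => [[29]].map fun y => (w ++ y, y ++ w))) ((m m0 h0).pairs_of (base m0 h0 hb hc) (Model.via _ (mR m0 h0) (fun R => pairsB R [1361, 416, 1, 0] (((zCg.flatMap fun w => [[29]].map fun y => (w ++ y, y ++ w)).drop 0).take 13)) c41))) (by decide +kernel))
theorem zn6 : (m m0 h0).Sol [[29]] zCg [0, 1707, 692, 9, 265, 1201, 114] [0, 1707, 692, 9, 265, 1201, 114] := (m m0 h0).sol_done [0, 1, 2, 3, 4, 5, 6] (((m m0 h0).chain_bot (zch_ok m0 h0) (hc.trans (by decide +kernel))).le.trans bot_le) (by decide +kernel)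
theorem zn5 : (m m0 h0).Sol [[29]] zCg [1707, 692, 9, 265, 1201, 114] [1707, 692, 9, 265, 1201, 114] := (m m0 h0).sol_free (zbdd m0 h0 hb hc) (zcm m0 h0 hb hc) (zot m0 h0 hb hc) ((m m0 h0).excl_zero _ _) (Model.via _ (mR m0 h0) (fun R => freeB R zOT [[29]] zCg [0, 1, 2, 3, 4, 5] [1707, 692, 9, 265, 1201, 114] [1707, 692, 9, 265, 1201, 114] [] 0 0 [([], 0, 0)] [[11, 10, 3, 5, 2, 0]] [0] zc21) c21) ((m m0 h0).solL_cons ((m m0 h0).sol_cyc [] (Bc := [0]) (T := [0]) rfl (Model.via _ (mR m0 h0) (fun R => cycB R (subst [[29]] []) [0]) c19) (Model.via _ (mR m0 h0) (fun R => cycB R (subst [[29]] []) [0]) c20) (zn6 m0 h0 hb hc)) (m m0 h0).solL_nil)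
theorem zn4 : (m m0 h0).Sol [[29]] zCg [692, 9, 265, 1201, 114] [692, 9, 265, 1201, 114] := (m m0 h0).sol_free (zbdd m0 h0 hb hc) (zcm m0 h0 hb hc) (zot m0 h0 hb hc) ((m m0 h0).excl_zero _ _) (Model.via _ (mR m0 h0) (fun R => freeB R zOT [[29]] zCg [0, 1, 2, 3, 4] [692, 9, 265, 1201, 114] [692, 9, 265, 1201, 114] [] 1707 0 [([], 1707, 1)] [[9, 4, 4, 1], [11, 10, 3, 5, 2, 0]] [0] zc23) c23) ((m m0 h0).solL_cons ((m m0 h0).sol_cyc [] (Bc := [1707]) (T := [1707]) rfl (Model.via _ (mR m0 h0) (fun R => cycB R (subst [[29]] []) [1707]) c18) (Model.via _ (mR m0 h0) (fun R => cycB R (subst [[29]] []) [1707]) c22) (zn5 m0 h0 hb hc)) (m m0 h0).solL_nil)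
theorem zn3 : (m m0 h0).Sol [[29]] zCg [265, 1201, 114] [265, 1201, 114] := (m m0 h0).sol_free (zbdd m0 h0 hb hc) (zcm m0 h0 hb hc) (zot m0 h0 hb hc) ((m m0 h0).excl_zero _ _) (Model.via _ (mR m0 h0) (fun R => freeB R zOT [[29]] zCg [0, 1, 2] [265, 1201, 114] [265, 1201, 114] [] 9 0 [([], 9, 2)] [[9, 4, 4, 1], [5, 1, 5, 1], [8, 6, 0, 8], [8, 1, 12, 8, 1]] [1, 2] zc25) c25) ((m m0 h0).solL_cons ((m m0 h0).sol_cyc [0] (Bc := [692, 9]) (T := [692, 9]) rfl (Model.via _ (mR m0 h0) (fun R => cycB R (subst [[29]] [0]) [692, 9]) c17) (Model.via _ (mR m0 h0) (fun R => cycB R (subst [[29]] [0]) [692, 9]) c24) (zn4 m0 h0 hb hc)) (m m0 h0).solL_nil)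
theorem zn2 : (m m0 h0).Sol [[29]] zCg [1201, 114] [1201, 114] := (m m0 h0).sol_free (zbdd m0 h0 hb hc) (zcm m0 h0 hb hc) (zot m0 h0 hb hc) ((m m0 h0).excl_mov (zbdd m0 h0 hb hc) [0] (Model.via _ (mR m0 h0) (fun R => exclB R (subst [[29]] [0]) 265 zD2) c27)) (Model.via _ (mR m0 h0) (fun R => freeB R zOT [[29]] zCg [0, 1] [1201, 114] [1201, 114] [] 265 zD2 [([], 265, 3)] [[5, 10, 4], [9, 4, 4, 1], [5, 1, 5, 1], [8, 6, 0, 8], [5, 7, 4, 4, 0]] [0] zc28) c28) ((m m0 h0).solL_cons ((m m0 h0).sol_cyc [] (Bc := [265]) (T := [265]) rfl (Model.via _ (mR m0 h0) (fun R => cycB R (subst [[29]] []) [265]) c16) (Model.via _ (mR m0 h0) (fun R => cycB R (subst [[29]] []) [265]) c26) (zn3 m0 h0 hb hc)) (m m0 h0).solL_nil)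
theorem zn1 : (m m0 h0).Sol [[29]] zCg [114] [114] := (m m0 h0).sol_free (zbdd m0 h0 hb hc) (zcm m0 h0 hb hc) (zot m0 h0 hb hc) ((m m0 h0).excl_mov (zbdd m0 h0 hb hc) [0] (Model.via _ (mR m0 h0) (fun R => exclB R (subst [[29]] [0]) 1201 zD1) c30)) (Model.via _ (mR m0 h0) (fun R => freeB R zOT [[29]] zCg [0] [114] [114] [] 1201 zD1 [([], 1201, 4)] [[3, 2], [4, 1, 0], [9, 4, 0], [12, 7, 0]] [0, 1, 2, 3, 2] zc31) c31) ((m m0 h0).solL_cons ((m m0 h0).sol_cyc [] (Bc := [1201]) (T := [1201]) rfl (Model.via _ (mR m0 h0) (fun R => cycB R (subst [[29]] []) [1201]) c15) (Model.via _ (mR m0 h0) (fun R => cycB R (subst [[29]] []) [1201]) c29) (zn2 m0 h0 hb hc)) (m m0 h0).solL_nil)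
theorem zn0 : (m m0 h0).Sol [[29]] zCg [] [] := (m m0 h0).sol_free (zbdd m0 h0 hb hc) (zcm m0 h0 hb hc) (zot m0 h0 hb hc) ((m m0 h0).excl_mov (zbdd m0 h0 hb hc) [0] (Model.via _ (mR m0 h0) (fun R => exclB R (subst [[29]] [0]) 114 zD0) c33)) (Model.via _ (mR m0 h0) (fun R => freeB R zOT [[29]] zCg [] [] [] [] 114 zD0 [([], 114, 5)] [[0], [1]] [0, 1, 0, 1, 0, 1, 0, 1, 1, 0, 1, 1, 0, 1, 0] zc34) c34) ((m m0 h0).solL_cons ((m m0 h0).sol_cyc [] (Bc := [114]) (T := [114]) rfl (Model.via _ (mR m0 h0) (fun R => cycB R (subst [[29]] []) [114]) c14) (Model.via _ (mR m0 h0) (fun R => cycB R (subst [[29]] []) [114]) c32) (zn1 m0 h0 hb hc)) (m m0 h0).solL_nil)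
theorem zsol : (m m0 h0).Sol [[29]] zCg [] [] := zn0 m0 h0 hb hc
omit hb hc in
theorem lc_ok : (m m0 h0).ChainOK lc [] := ((m m0 h0).chain_cons [0, 1, 2, 0, 1, 2, 0, 1, 2, 0, 1, 2, 0, 1, 0] (Model.via _ (mR m0 h0) (fun R => Model.fixP R [] [[17, 17, 17, 17, 16, 17, 20, 20, 19, 20, 24, 24, 22], [17, 17, 17, 17, 17, 17, 16, 17, 19, 20, 20, 22, 24, 24, 28], [17, 16, 17, 20, 19, 20, 24, 22, 22, 28]]) c44) (Model.via _ (mR m0 h0) (fun R => Model.growP R [[17, 17, 17, 17, 16, 17, 20, 20, 19, 20, 24, 24, 22], [17, 17, 17, 17, 17, 17, 16, 17, 19, 20, 20, 22, 24, 24, 28], [17, 16, 17, 20, 19, 20, 24, 22, 22, 28]] [0, 1, 2, 0, 1, 2, 0, 1, 2, 0, 1, 2, 0, 1, 0] 0 1344) c45) ((m m0 h0).chain_cons [0, 1, 2, 0, 2] (Model.via _ (mR m0 h0) (fun R => Model.fixP R [0] [[16, 17, 17, 16, 17, 19, 20, 19, 20, 20, 20, 24, 28, 27, 26], [17, 17, 16, 17, 19, 20, 19, 20, 20, 20, 24, 28, 27], [19, 20, 22, 27]])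 c42) (Model.via _ (mR m0 h0) (fun R => Model.growP R [[16, 17, 17, 16, 17, 19, 20, 19, 20, 20, 20, 24, 28, 27, 26], [17, 17, 16, 17, 19, 20, 19, 20, 20, 20, 24, 28, 27], [19, 20, 22, 27]] [0, 1, 2, 0, 2] 1 16) c43) ((m m0 h0).chain_nil _)))
theorem iso : ∃ z : G, orderOf z = 2 ∧ Nonempty (PG 13 H0.MHZ.B ≃* Subgroup.centralizer {z}) := by
  refine ⟨ev (m m0 h0).g [29], orderOf_eq_prime (by simpa [sq] using (all_take_done (all_take_step (all_take_zero _ [([29, 29], [])]) ((m m0 h0).pairs_of (base m0 h0 hb hc) (Model.via _ (mR m0 h0) (fun R => pairsB R [1361, 416, 1, 0] (([([29, 29], [])].drop 0).take 1)) c46))) (by decide +kernel)) _ List.mem_cons_self) ((m m0 h0).ne_of_neB (Model.via _ (mR m0 h0) (fun R => neB R [29] [] 0 229 0) c47)), ?_⟩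
  rw [(m m0 h0).cent_eq (zcm m0 h0 hb hc) (zsol m0 h0 hb hc)]
  exact iso_low _ 16 (all_take_done (all_take_step (all_take_zero _ ((H0.MHZ.B.map (sh 16)).map fun r => (r, ([] : List ℕ)))) ((m m0 h0).pairs_of (base m0 h0 hb hc) (Model.via _ (mR m0 h0) (fun R => pairsB R [1361, 416, 1, 0] ((((H0.MHZ.B.map (sh 16)).map fun r => (r, ([] : List ℕ))).drop 0).take 53)) c48))) (by decide +kernel)) (by decide +kernel) (H0.MHZ.upper (Pres.pg _ _))
    ((m m0 h0).chain_card (lc_ok m0 h0) ((gen_le_sh _ (by decide +kernel)).trans (gen_sh _ 16 (lets 13)).le))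
end H0.EHeZ
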